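import Mathlib
import Cfsg.Agent.Lib.PSolvable
import Cfsg.Prelude.Def_Classification2
import Cfsg.Prelude.Def_CaseTheorems
import Cfsg.Prelude.Def_ClassificationK
import Cfsg.Agent.Lib.Cores
import Cfsg.Agent.H631.TorusCent
import Cfsg.Agent.GenExc.Data
import Cfsg.Agent.FastGrp
import Cfsg.Agent.Prune
set_option linter.all false

section
prune_inst 0x7f00000000000000000000000000000000000000000000000000000000000000000000000000000000000000000000000000000000000000000000000000000000000000000000000000000000000000003fffffffffffffffffffffffffffbeffbdffffffff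

-- part: H631/Red
section
set_option linter.all false
open scoped Cfsg.Agent.FastGrp

-- part: H631/CondLib
section
/-!
# S4603: the condition on class sizes of `q`-elements (from helper630's proof of S4601)
-/

set_option autoImplicit false
open Pointwise
open Cfsg

namespace Cfsg.Agent.H631

open Cfsg.Agent.Lib

/-- `q`-elements of `G` have class sizes prime to `p`. -/
def Cond (p q : ℕ) (G : Type*) [Group G] : Prop :=
  ∀ y : G, (∃ k : ℕ, orderOf y = q ^ k) → ¬ p ∣ (Subgroup.centralizer ({y} : Set G)).index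

/-- Elements of `q`-power order lift along surjective homomorphisms of finite groups. -/
theorem exists_lift {G H : Type*} [Group G] [Finite G] [Group H] (q : ℕ) [Fact q.Prime]
    (f : G →* H) (hf : Function.Surjective f) (y : H) (hy : ∃ k : ℕ, orderOf y = q ^ k) :
    ∃ x : G, (∃ k : ℕ, orderOf x = q ^ k) ∧ f x = y := by
  have hH : Finite H := Finite.of_surjective f hf
  obtain ⟨k, hk⟩ := hy
  have h1 : IsPGroup q (Subgroup.zpowers y) := by
    apply IsPGroup.of_card (n := k)
    rw [Nat.card_zpowers, hk]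
  obtain ⟨Q, hQ⟩ := h1.exists_le_sylow
  obtain ⟨R, hR⟩ := Sylow.mapSurjective_surjective hf q Q
  have hy1 : y ∈ (Q : Subgroup H) := hQ (Subgroup.mem_zpowers y)
  rw [← hR, Sylow.coe_mapSurjective] at hy1
  obtain ⟨x, hx, hxy⟩ := Subgroup.mem_map.mp hy1
  refine ⟨x, ?_, hxy⟩
  have hx2 := (IsPGroup.iff_orderOf.mp R.isPGroup') ⟨x, hx⟩
  obtain ⟨m, hm⟩ := hx2
  exact ⟨m, by rw [← hm, Subgroup.orderOf_mk]⟩

/-- The condition passes to epimorphic images. -/
theorem Cond.of_surjective {G H : Type*} [Group G] [Finite G] [Group H] (p q : ℕ) [Fact q.Prime]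
    (h : Cond p q G) (f : G →* H) (hf : Function.Surjective f) : Cond p q H := by
  intro y hy hd
  obtain ⟨x, hx, rfl⟩ := exists_lift q f hf y hy
  apply h x hx
  refine hd.trans ((Subgroup.index_dvd_of_le ?_).trans (Subgroup.index_map_dvd _ hf))
  rintro _ ⟨c, hc, rfl⟩
  rw [Subgroup.mem_centralizer_singleton_iff]
  rw [SetLike.mem_coe, Subgroup.mem_centralizer_singleton_iff] at hc
  rw [← map_mul, ← map_mul, hc]

/-- The relative index in a normal subgroup. -/
theorem relIndex_normal {G : Type*} [Group G] [Finite G] (S K : Subgroup G) [K.Normal] :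
    S.relIndex (S ⊔ K) = S.relIndex K := by
  have h1 : Nat.card S * S.relIndex (S ⊔ K) = Nat.card (S ⊔ K : Subgroup G) := by
    rw [← Subgroup.relIndex_bot_left, ← Subgroup.relIndex_bot_left,
      Subgroup.relIndex_mul_relIndex _ _ _ bot_le le_sup_left]
  have h2 : Nat.card K * K.relIndex S = Nat.card (S ⊔ K : Subgroup G) := by
    rw [← Subgroup.relIndex_sup_right S K, ← Subgroup.relIndex_bot_left, ← Subgroup.relIndex_bot_left,
      Subgroup.relIndex_mul_relIndex _ _ _ bot_le le_sup_right]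
  have h3 : Nat.card (K ⊓ S : Subgroup G) * K.relIndex S = Nat.card S := by
    rw [← Subgroup.inf_relIndex_right, ← Subgroup.relIndex_bot_left, ← Subgroup.relIndex_bot_left,
      Subgroup.relIndex_mul_relIndex _ _ _ bot_le inf_le_right]
  have h4 : Nat.card (K ⊓ S : Subgroup G) * S.relIndex K = Nat.card K := by
    rw [inf_comm, ← Subgroup.inf_relIndex_right, ← Subgroup.relIndex_bot_left,
      ← Subgroup.relIndex_bot_left, Subgroup.relIndex_mul_relIndex _ _ _ bot_le inf_le_right]
  have hpos : 0 < Nat.card S := Nat.card_pos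
  apply Nat.eq_of_mul_eq_mul_left hpos
  rw [h1, ← h2, ← h4, ← h3]
  ring

/-- A subgroup of index prime to `p` contains a Sylow `p`-subgroup of the group. -/
theorem exists_sylow_le {G : Type*} [Group G] [Finite G] (p : ℕ) [Fact p.Prime] (C : Subgroup G)
    (hC : ¬ p ∣ C.index) : ∃ S : Sylow p G, (S : Subgroup G) ≤ C := by
  obtain ⟨S⟩ : Nonempty (Sylow p C) := inferInstance
  have hSi : ¬ p ∣ ((S : Subgroup C).map C.subtype).index := by
    rw [Subgroup.index_map_subtype]
    intro hd
    rcases (Fact.out : p.Prime).dvd_mul.mp hd with h1 | h1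
    · exact S.not_dvd_index h1
    · exact hC h1
  exact ⟨(S.isPGroup'.map C.subtype).toSylow hSi, Subgroup.map_subtype_le _⟩

end Cfsg.Agent.H631
end

-- part: H631/Red
section
/-!
# S4603: reduction to simple groups

`Bad q X`: some `q`-element of `X` has a conjugacy class of even size.  A group all of whose nonabelian simple
"factors" are bad for `q` and in which every `q`-element has odd class size is `q`-solvable.
-/

set_option autoImplicit false
set_option linter.style.haveILetI false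
open Cfsg
open scoped Pointwise

namespace Cfsg.Agent.H631

open Cfsg.Agent.Lib

universe u v

/-- Some `q`-element has a conjugacy class of even size. -/
def Bad (q : ℕ) (X : Type u) [Group X] : Prop :=
  ∃ y : X, (∃ k : ℕ, orderOf y = q ^ k) ∧ 2 ∣ (Subgroup.centralizer ({y} : Set X)).index

theorem Bad.congr {q : ℕ} {X : Type u} {Y : Type v} [Group X] [Group Y] (e : X ≃* Y) (h : Bad q X) : Bad q Y := by
  obtain ⟨y, hy, hd⟩ := h
  refine ⟨e y, ?_, ?_⟩
  · obtain ⟨k, hk⟩ := hy
    exact ⟨k, by rw [MulEquiv.orderOf_eq, hk]⟩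
  · have h1 : (Subgroup.centralizer ({e y} : Set Y)) = (Subgroup.centralizer ({y} : Set X)).map e.toMonoidHom := by
      ext z
      rw [Subgroup.mem_map_equiv, Subgroup.mem_centralizer_singleton_iff, Subgroup.mem_centralizer_singleton_iff]
      constructor
      · intro hz
        apply e.injective
        simp [hz]
      · intro hz
        have := congrArg e hz
        simpa using this
    rw [h1]
    have h2 := Subgroup.index_map_equiv (Subgroup.centralizer ({y} : Set X)) e
    change 2 ∣ (Subgroup.map (e : X →* Y) (Subgroup.centralizer ({y} : Set X))).index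
    rw [h2]
    exact hd

/-- The condition passes to normal subgroups. -/
theorem cond_normal {G : Type u} [Group G] [Finite G] (q : ℕ) (h : Cond 2 q G) (N : Subgroup G) [N.Normal] :
    Cond 2 q N := by
  intro y hy hd
  apply h (y : G) (by obtain ⟨k, hk⟩ := hy; exact ⟨k, by rw [← hk, Subgroup.orderOf_coe]⟩)
  refine hd.trans ?_
  have h1 : (Subgroup.centralizer ({y} : Set N)) = (Subgroup.centralizer ({(y : G)} : Set G)).subgroupOf N := by
    ext z
    rw [Subgroup.mem_subgroupOf, Subgroup.mem_centralizer_singleton_iff, Subgroup.mem_centralizer_singleton_iff]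
    constructor
    · intro hz
      exact_mod_cast congrArg (Subtype.val) hz
    · intro hz
      exact Subtype.ext (by exact_mod_cast hz)
  rw [h1]
  have h2 : ((Subgroup.centralizer ({(y : G)} : Set G)).subgroupOf N).index
      = (Subgroup.centralizer ({(y : G)} : Set G)).relIndex N := rfl
  rw [h2, ← relIndex_normal]
  exact Subgroup.relIndex_dvd_index_of_le le_sup_left

theorem isPSolvable_of_pprime {G : Type u} [Group G] [Finite G] (q : ℕ) [hq : Fact q.Prime] (h : ¬ q ∣ Nat.card G) :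
    IsPSolvable q G := by
  refine ⟨1, fun i => if i = 0 then ⊥ else ⊤, by simp, by simp [Fin.last], ?_, ?_, ?_⟩
  · intro i j hij
    by_cases hi : i = 0
    · simp [hi]
    · have hj : j ≠ 0 := by
        rintro rfl
        exact hi (Fin.le_zero_iff.mp hij)
      simp [hi, hj]
  · intro i
    by_cases hi : i = 0
    · simp only [hi, if_true]; infer_instance
    · simp only [hi, if_false]; infer_instance
  · intro i
    right
    have hi : i = 0 := Subsingleton.elim _ _
    subst hi
    simp only [Fin.castSucc_zero, if_true]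
    have : (Fin.succ (0 : Fin 1) : Fin 2) ≠ 0 := by simp
    rw [if_neg this, Subgroup.relIndex_bot_left, Subgroup.card_top]
    exact ((hq.out.coprime_iff_not_dvd).mpr h).symm

/-- **Reduction**: if every nonabelian simple group of order divisible by `q` is bad, then the condition implies
`q`-solvability. -/
theorem isPSolvable_of_cond (q : ℕ) [hq : Fact q.Prime]
    (hS : ∀ (X : Type u) [Group X] [Finite X] [IsSimpleGroup X], ¬ IsMulCommutative X → q ∣ Nat.card X → Bad q X)
    {G : Type u} [Group G] [Finite G] (h : Cond 2 q G) : IsPSolvable q G := by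
  induction hn : Nat.card G using Nat.strong_induction_on generalizing G with
  | _ n ih =>
    subst hn
    by_cases hsimple : IsSimpleGroup G
    · by_cases hab : IsMulCommutative G
      · have hsol : Group.IsSolvable G := by
          letI : CommGroup G := { (inferInstance : Group G) with mul_comm := hab.is_comm.comm }
          exact (inferInstance : Group.IsSolvable G)
        exact PSolvable.IsPSolvable_of_solvable q
      · by_cases hd : q ∣ Nat.card G
        · obtain ⟨y, hy, hy2⟩ := hS G hab hd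
          exact absurd hy2 (h y hy)
        · exact isPSolvable_of_pprime q hd
    · by_cases hnt : Nontrivial G
      · have h1 : ∃ N : Subgroup G, N.Normal ∧ N ≠ ⊥ ∧ N ≠ ⊤ := by
          by_contra hcon
          push Not at hcon
          exact hsimple ⟨fun N hN => by
            by_cases hb : N = ⊥
            · exact Or.inl hb
            · exact Or.inr (hcon N hN hb)⟩
        obtain ⟨N, hN, hb, ht⟩ := h1
        have hlt : Nat.card N < Nat.card G := by
          refine lt_of_le_of_ne (Subgroup.card_le_card_group N) ?_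
          intro he
          exact ht (Subgroup.eq_top_of_card_eq N he)
        have hlt2 : Nat.card (G ⧸ N) < Nat.card G := by
          have h2 := Subgroup.card_eq_card_quotient_mul_card_subgroup N
          have h3 : 1 < Nat.card N := by
            have h4 : Nat.card N ≠ 1 := fun he => hb (Subgroup.card_eq_one.mp he)
            have h5 : 0 < Nat.card N := Nat.card_pos
            omega
          have h4 : 0 < Nat.card (G ⧸ N) := Nat.card_pos
          nlinarith
        have h2 := ih _ hlt (cond_normal q h N) rfl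
        have h3 := ih _ hlt2 (h.of_surjective 2 q (QuotientGroup.mk' N) (QuotientGroup.mk'_surjective N)) rfl
        exact PSolvable.IsPSolvable_of_extension q N h2 h3
      · rw [not_nontrivial_iff_subsingleton] at hnt
        apply isPSolvable_of_pprime q
        rw [Nat.card_of_subsingleton (1 : G)]
        intro hd
        exact hq.out.one_lt.ne' (Nat.dvd_one.mp hd)

/-- A subgroup of odd index contains a conjugate of every 2-subgroup. -/
theorem exists_conj_le {G : Type u} [Group G] [Finite G] (A : Subgroup G) (hA : IsPGroup 2 A) (C : Subgroup G)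
    (hC : ¬ 2 ∣ C.index) : ∃ g : G, ∀ a ∈ A, g * a * g⁻¹ ∈ C := by
  haveI : Fact (Nat.Prime 2) := ⟨Nat.prime_two⟩
  obtain ⟨S, hS⟩ := exists_sylow_le 2 C hC
  obtain ⟨T, hT⟩ := hA.exists_le_sylow
  obtain ⟨g, hg⟩ := MulAction.exists_smul_eq G T S
  refine ⟨g, fun a ha => hS ?_⟩
  rw [← hg]
  have h1 : MulAut.conj g • a ∈ MulAut.conj g • (T : Subgroup G) := Subgroup.smul_mem_pointwise_smul _ _ _ (hT ha)
  exact h1

/-- First criterion: a 2-subgroup `A` centralized by no nontrivial `q`-element. -/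
theorem bad_of_centralizer {G : Type u} [Group G] [Finite G] (q : ℕ) [hq : Fact q.Prime] (hd : q ∣ Nat.card G)
    (A : Subgroup G) (hA : IsPGroup 2 A)
    (h : ∀ y : G, (∃ k : ℕ, orderOf y = q ^ k) → (∀ a ∈ A, a * y = y * a) → y = 1) : Bad q G := by
  obtain ⟨y, hy⟩ := exists_prime_orderOf_dvd_card' q hd
  refine ⟨y, ⟨1, by rw [hy, pow_one]⟩, ?_⟩
  by_contra hodd
  obtain ⟨g, hg⟩ := exists_conj_le A hA _ hodd
  have h1 : g⁻¹ * y * g = 1 := by
    apply h
    · refine ⟨1, ?_⟩
      rw [pow_one, ← hy]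
      have := orderOf_injective (MulAut.conj g⁻¹).toMonoidHom (MulAut.conj g⁻¹).injective y
      simpa using this
    · intro a ha
      have h2 := hg a ha
      rw [Subgroup.mem_centralizer_singleton_iff] at h2
      have h3 : a * (g⁻¹ * y * g) = g⁻¹ * (g * a * g⁻¹ * y) * g := by group
      rw [h3, h2]
      group
  have h2 : y = 1 := by
    have : y = g * (g⁻¹ * y * g) * g⁻¹ := by group
    rw [this, h1]; group
  rw [h2, orderOf_one] at hy
  exact hq.out.one_lt.ne hy

/-- Second criterion: a nontrivial real `q`-element, `q` odd. -/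
theorem bad_of_real {G : Type u} [Group G] [Finite G] (q : ℕ) [hq : Fact q.Prime] (hq2 : q ≠ 2) (y : G)
    (hy1 : y ≠ 1) (hy : ∃ k : ℕ, orderOf y = q ^ k) (hr : IsConj y y⁻¹) : Bad q G := by
  haveI : Fact (Nat.Prime 2) := ⟨Nat.prime_two⟩
  refine ⟨y, hy, ?_⟩
  by_contra hodd
  obtain ⟨g, hg⟩ := isConj_iff.mp hr
  -- replace `g` by a 2-element
  obtain ⟨g2, hg2, hinv⟩ : ∃ g2 : G, IsPGroup 2 (Subgroup.zpowers g2) ∧ g2 * y * g2⁻¹ = y⁻¹ := by
    have hn : orderOf g ≠ 0 := (orderOf_pos g).ne'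
    obtain ⟨k, m, hm, hk⟩ := Nat.exists_eq_two_pow_mul_odd hn
    refine ⟨g ^ m, ?_, ?_⟩
    · apply IsPGroup.of_card (n := k)
      rw [Nat.card_zpowers, orderOf_pow_of_dvd hm.pos.ne' ⟨2 ^ k, by rw [hk]; ring⟩, hk,
        Nat.mul_div_cancel _ hm.pos]
    · have key : ∀ j : ℕ, g ^ (2 * j) * y * (g ^ (2 * j))⁻¹ = y := by
        intro j
        induction j with
        | zero => simp
        | succ j ihj =>
          have h1 : g ^ (2 * (j + 1)) = g * g * g ^ (2 * j) := by
            rw [mul_add, mul_one, pow_add, pow_two]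
            rw [← pow_two, ← pow_add, ← pow_add, add_comm]
          rw [h1]
          have h2 : g * g * g ^ (2 * j) * y * (g * g * g ^ (2 * j))⁻¹
              = g * (g * (g ^ (2 * j) * y * (g ^ (2 * j))⁻¹) * g⁻¹) * g⁻¹ := by group
          rw [h2, ihj, hg]
          have h3 : g * y⁻¹ * g⁻¹ = (g * y * g⁻¹)⁻¹ := by group
          rw [h3, hg, inv_inv]
      obtain ⟨j, hj⟩ := hm
      rw [hj, pow_succ']
      have h2 : g * g ^ (2 * j) * y * (g * g ^ (2 * j))⁻¹ = g * (g ^ (2 * j) * y * (g ^ (2 * j))⁻¹) * g⁻¹ := by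
        group
      rw [h2, key, hg]
  -- `C(y)` has odd index in `G`, hence in `C(y) ⟨g2⟩`; but `g2` normalizes `C(y)`
  let C := Subgroup.centralizer ({y} : Set G)
  let D := C ⊔ Subgroup.zpowers g2
  have hgC : g2 ∈ Subgroup.normalizer (C : Set G) := by
    rw [Subgroup.mem_normalizer_iff]
    intro c
    have h1 : g2⁻¹ * y * g2 = y⁻¹ := by
      have h2 : y = (g2⁻¹ * y⁻¹ * g2) := by rw [← hinv]; group
      have h3 : y⁻¹ = (g2⁻¹ * y⁻¹ * g2)⁻¹ := by rw [← h2]
      rw [h3]; group
    change c ∈ C ↔ g2 * c * g2⁻¹ ∈ C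
    simp only [C, Subgroup.mem_centralizer_singleton_iff]
    constructor
    · intro hc
      have h4 : c * y⁻¹ = y⁻¹ * c := by
        have h5 := (Commute.inv_right (show Commute c y from hc))
        exact h5
      have h6 : g2 * c * g2⁻¹ * y = g2 * (c * (g2⁻¹ * y * g2)) * g2⁻¹ := by group
      rw [h6, h1, h4, ← h1]
      group
    · intro hc
      have h4 : (g2 * c * g2⁻¹) * y⁻¹ = y⁻¹ * (g2 * c * g2⁻¹) :=
        (Commute.inv_right (show Commute (g2 * c * g2⁻¹) y from hc))
      have h6 : c * y = g2⁻¹ * (g2 * c * g2⁻¹ * (g2 * y * g2⁻¹)) * g2 := by group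
      rw [h6, hinv, h4, ← hinv]
      group
  obtain ⟨P, hP⟩ := exists_sylow_le 2 C hodd
  obtain ⟨T, hT⟩ := hg2.exists_le_sylow
  -- the Sylow 2-subgroups of `D` lie in `C`, as `C` is normal in `D` of odd index
  have hCD : C ≤ D := le_sup_left
  have hgD : g2 ∈ D := Subgroup.mem_sup_right (Subgroup.mem_zpowers g2)
  have hDn : D ≤ Subgroup.normalizer (C : Set G) := sup_le Subgroup.le_normalizer (by
    rw [Subgroup.zpowers_le]; exact hgC)
  have hnorm : (C.subgroupOf D).Normal := by
    exact (Subgroup.normal_subgroupOf_iff_le_normalizer hCD).mpr hDn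
  have hgC' : g2 ∈ C := by
    have h1 : ¬ 2 ∣ (C.subgroupOf D).index := by
      intro hd2
      exact hodd (hd2.trans (Subgroup.relIndex_dvd_index_of_le hCD))
    have h2 : (⟨g2, hgD⟩ : D) ^ (C.subgroupOf D).index ∈ C.subgroupOf D := by
      exact Subgroup.pow_index_mem _ _
    rw [Subgroup.mem_subgroupOf] at h2
    have h3 : g2 ^ (C.subgroupOf D).index ∈ C := by simpa using h2
    obtain ⟨k, hk⟩ := (IsPGroup.iff_card).mp hg2
    rw [Nat.card_zpowers] at hk
    have hcop : (orderOf g2).Coprime (C.subgroupOf D).index := by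
      rw [hk]
      exact Nat.Coprime.pow_left k ((Nat.prime_two.coprime_iff_not_dvd).mpr h1)
    have h4 : g2 ∈ Subgroup.zpowers (g2 ^ (C.subgroupOf D).index) := by
      have h5 := Nat.Coprime.symm hcop
      rw [mem_zpowers_pow_iff]
      exact h5
    exact (Subgroup.zpowers_le.mpr h3) h4
  rw [Subgroup.mem_centralizer_singleton_iff] at hgC'
  have h1 : y = y⁻¹ := by
    rw [← hinv, hgC']
    group
  have h2 : y ^ 2 = 1 := by
    rw [pow_two]
    nth_rewrite 2 [h1]
    exact mul_inv_cancel y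
  obtain ⟨k, hk⟩ := hy
  have h3 : orderOf y ∣ 2 := orderOf_dvd_of_pow_eq_one h2
  rw [hk] at h3
  have hk0 : k ≠ 0 := by
    rintro rfl
    rw [pow_zero] at hk
    exact hy1 (orderOf_eq_one_iff.mp hk)
  have h4 : q ∣ 2 := (dvd_pow_self q hk0).trans h3
  exact hq2 ((Nat.prime_dvd_prime_iff_eq hq.out Nat.prime_two).mp h4)

end Cfsg.Agent.H631
end
end

-- part: H631/Exc
section
set_option linter.all false
open scoped Cfsg.Agent.FastGrp

-- part: H631/CharTwo
section
/-!
# S4603: groups with a 2-local subgroup of characteristic 2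
-/

set_option autoImplicit false
set_option linter.style.haveILetI false
open Cfsg

namespace Cfsg.Agent.H631

universe u

theorem order_two_pow_and {q : ℕ} (hq : q.Prime) (hq2 : q ≠ 2) {G : Type u} [Group G] {y : G} {k m : ℕ}
    (h1 : orderOf y = q ^ k) (h2 : orderOf y = 2 ^ m) : y = 1 := by
  have hcop : Nat.Coprime (q ^ k) (2 ^ m) :=
    Nat.Coprime.pow _ _ ((Nat.coprime_primes hq Nat.prime_two).mpr hq2)
  rw [← h1, h2, Nat.coprime_self] at hcop
  rw [hcop] at h2
  exact orderOf_eq_one_iff.mp h2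

/-- A 2-local subgroup of characteristic 2. -/
theorem bad_of_local {G : Type u} [Group G] [Finite G] (q : ℕ) [hq : Fact q.Prime] (hq2 : q ≠ 2)
    (hd : q ∣ Nat.card G) (T : Subgroup G) (hT : IsPGroup 2 T)
    (h : IsOfCharacteristicTwo ↥(Subgroup.normalizer (T : Set G))) : Bad q G := by
  haveI : Fact (Nat.Prime 2) := ⟨Nat.prime_two⟩
  have hp2 := Lib.Cores.pCore_isPGroup (G := ↥(Subgroup.normalizer (T : Set G))) 2
  have hle : T.subgroupOf (Subgroup.normalizer (T : Set G)) ≤ pCore 2 ↥(Subgroup.normalizer (T : Set G)) := by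
    apply Lib.Cores.le_pCore
    · exact (Subgroup.normal_subgroupOf_iff_le_normalizer Subgroup.le_normalizer).mpr le_rfl
    · exact hT.comap_of_injective _ (Subgroup.subtype_injective _)
  refine bad_of_centralizer q hd
    ((pCore 2 ↥(Subgroup.normalizer (T : Set G))).map (Subgroup.normalizer (T : Set G)).subtype) (hp2.map _) ?_
  rintro y ⟨k, hk⟩ hy
  have hyT : y ∈ Subgroup.normalizer (T : Set G) := by
    apply Subgroup.centralizer_le_normalizer
    rw [Subgroup.mem_centralizer_iff]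
    intro t ht
    exact hy t ⟨⟨t, Subgroup.le_normalizer ht⟩, hle ht, rfl⟩
  have hyC : (⟨y, hyT⟩ : ↥(Subgroup.normalizer (T : Set G))) ∈
      Subgroup.centralizer (pCore 2 ↥(Subgroup.normalizer (T : Set G)) : Set _) := by
    rw [Subgroup.mem_centralizer_iff]
    intro x hx
    exact Subtype.ext (hy x ⟨x, hx, rfl⟩)
  have h1 := h hyC
  obtain ⟨m, hm⟩ := (IsPGroup.iff_orderOf.mp hp2) ⟨_, h1⟩
  rw [Subgroup.orderOf_mk, Subgroup.orderOf_mk] at hm
  exact order_two_pow_and hq.out hq2 hk hm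

theorem bad_of_charTwoType {G : Type u} [Group G] [Finite G] (q : ℕ) [hq : Fact q.Prime] (hq2 : q ≠ 2)
    (hd : q ∣ Nat.card G) (h : IsCharacteristicTwoType G) : Bad q G := by
  haveI : Fact (Nat.Prime 2) := ⟨Nat.prime_two⟩
  obtain ⟨he, h⟩ := h
  obtain ⟨S⟩ : Nonempty (Sylow 2 G) := inferInstance
  have hne : (S : Subgroup G) ≠ ⊥ := S.ne_bot_of_dvd_card he.two_dvd
  exact bad_of_local q hq2 hd S S.isPGroup' (h S S.isPGroup' hne)

end Cfsg.Agent.H631
end

-- part: H631/Quot
section
/-!
# S4603: criteria for central quotients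
-/

set_option autoImplicit false
set_option linter.style.haveILetI false
open Cfsg

namespace Cfsg.Agent.H631

universe u

variable {H : Type u} [Group H] [Finite H]

/-- A `q`-element of `H/Z` commuting with the image of a 2-group `A` lifts to a `q`-element commuting with `A`. -/
theorem exists_lift_comm (q : ℕ) [hq : Fact q.Prime] (hq2 : q ≠ 2) (A : Subgroup H) (hA : IsPGroup 2 A)
    (Z : Subgroup H) [Z.Normal] (hZ : Z ≤ Subgroup.center H)
    (y : H ⧸ Z) (hy : ∃ k : ℕ, orderOf y = q ^ k)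
    (hc : ∀ a ∈ A, (QuotientGroup.mk a : H ⧸ Z) * y = y * QuotientGroup.mk a) :
    ∃ x : H, (∃ k : ℕ, orderOf x = q ^ k) ∧ (QuotientGroup.mk x : H ⧸ Z) = y ∧ ∀ a ∈ A, a * x = x * a := by
  obtain ⟨x, ⟨k, hk⟩, hxy⟩ := exists_lift q (QuotientGroup.mk' Z)
    (QuotientGroup.mk'_surjective _) y hy
  refine ⟨x, ⟨k, hk⟩, hxy, fun a ha => ?_⟩
  obtain ⟨m, hm⟩ := (IsPGroup.iff_orderOf.mp hA) ⟨a, ha⟩
  rw [Subgroup.orderOf_mk] at hm
  have h1 : (QuotientGroup.mk (a * x) : H ⧸ Z) = QuotientGroup.mk (x * a) := by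
    have h2 := hc a ha
    rw [← hxy] at h2
    exact h2
  rw [QuotientGroup.eq] at h1
  -- `z = (a x)⁻¹ (x a)`
  set z : H := (a * x)⁻¹ * (x * a) with hz
  have hzc : z ∈ Subgroup.center H := hZ h1
  have hcomm : ∀ g : H, g * z = z * g := fun g => (Subgroup.mem_center_iff.mp hzc g)
  have e1 : x * a = a * x * z := by rw [hz]; group
  have e2 : x * a * x⁻¹ = z * a := by
    rw [e1]
    have : a * x * z * x⁻¹ = a * (x * z) * x⁻¹ := by group
    rw [this, hcomm x]
    have : a * (z * x) * x⁻¹ = a * z := by group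
    rw [this, hcomm a]
  have e3 : a⁻¹ * x * a = z * x := by
    have : a⁻¹ * x * a = a⁻¹ * (x * a) := by group
    rw [this, e1]
    have : a⁻¹ * (a * x * z) = x * z := by group
    rw [this, hcomm x]
  have hz1 : z ^ (2 ^ m) = 1 := by
    have h3 : (x * a * x⁻¹) ^ (2 ^ m) = 1 := by
      rw [conj_pow, ← hm, pow_orderOf_eq_one, mul_one, mul_inv_cancel]
    rw [e2, (show Commute z a from (hcomm a).symm).mul_pow, ← hm, pow_orderOf_eq_one, mul_one] at h3
    rw [← hm]; exact h3
  have hz2 : z ^ (q ^ k) = 1 := by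
    have h3 : (a⁻¹ * x * a) ^ (q ^ k) = 1 := by
      have h4 : a⁻¹ * x * a = a⁻¹ * x * (a⁻¹)⁻¹ := by rw [inv_inv]
      rw [h4, conj_pow, ← hk, pow_orderOf_eq_one, mul_one, mul_inv_cancel]
    rw [e3, (show Commute z x from (hcomm x).symm).mul_pow, ← hk, pow_orderOf_eq_one, mul_one] at h3
    rw [← hk]; exact h3
  have hcop : Nat.Coprime (2 ^ m) (q ^ k) := Nat.Coprime.pow _ _ ((Nat.coprime_primes Nat.prime_two hq.out).mpr (Ne.symm hq2))
  have hz3 : z = 1 := by
    have h4 : orderOf z ∣ 1 := by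
      rw [← hcop]
      exact Nat.dvd_gcd (orderOf_dvd_of_pow_eq_one hz1) (orderOf_dvd_of_pow_eq_one hz2)
    exact orderOf_eq_one_iff.mp (Nat.dvd_one.mp h4)
  rw [e1, hz3, mul_one]

/-- Central quotients, first criterion. -/
theorem bad_quot_of_cent (q : ℕ) [hq : Fact q.Prime] (hq2 : q ≠ 2) (Z : Subgroup H) [Z.Normal] (hZ : Z ≤ Subgroup.center H)
    (hd : q ∣ Nat.card (H ⧸ Z)) (A : Subgroup H) (hA : IsPGroup 2 A)
    (h : ∀ x : H, (∃ k : ℕ, orderOf x = q ^ k) → (∀ a ∈ A, a * x = x * a) → x ∈ Z) :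
    Bad q (H ⧸ Z) := by
  refine bad_of_centralizer q hd (A.map (QuotientGroup.mk' Z)) (hA.map _) ?_
  intro y hy hc
  obtain ⟨x, hx, hxy, hxc⟩ := exists_lift_comm q hq2 A hA Z hZ y hy (fun a ha => hc _ ⟨a, ha, rfl⟩)
  rw [← hxy, QuotientGroup.eq_one_iff]
  exact h x hx hxc

/-- Quotients, second criterion. -/
theorem bad_quot_of_real (q : ℕ) [hq : Fact q.Prime] (hq2 : q ≠ 2) (Z : Subgroup H) [Z.Normal] (x : H)
    (hx1 : x ∉ Z) (hx : ∃ k : ℕ, orderOf x = q ^ k) (hr : IsConj x x⁻¹) :
    Bad q (H ⧸ Z) := by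
  apply bad_of_real q hq2 (QuotientGroup.mk x : H ⧸ Z)
  · rw [Ne, QuotientGroup.eq_one_iff]; exact hx1
  · obtain ⟨k, hk⟩ := hx
    have h1 : orderOf (QuotientGroup.mk x : H ⧸ Z) ∣ q ^ k := by
      rw [← hk]
      exact orderOf_map_dvd (QuotientGroup.mk' Z) x
    obtain ⟨j, -, hj⟩ := (Nat.dvd_prime_pow hq.out).mp h1
    exact ⟨j, hj⟩
  · obtain ⟨g, hg⟩ := isConj_iff.mp hr
    rw [isConj_iff]
    refine ⟨QuotientGroup.mk g, ?_⟩
    rw [← QuotientGroup.mk_mul, ← QuotientGroup.mk_inv, ← QuotientGroup.mk_mul, hg]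
    rfl

/-- A combination: if there is a noncentral `q`-element commuting with `A` then there is a real one. -/
theorem bad_quot (q : ℕ) [hq : Fact q.Prime] (hq2 : q ≠ 2) (Z : Subgroup H) [Z.Normal] (hZ : Z ≤ Subgroup.center H)
    (hd : q ∣ Nat.card (H ⧸ Z)) (A : Subgroup H) (hA : IsPGroup 2 A)
    (h : ∀ x : H, (∃ k : ℕ, orderOf x = q ^ k) → (∀ a ∈ A, a * x = x * a) → x ≠ 1 →
      ∃ y : H, y ∉ Z ∧ (∃ k : ℕ, orderOf y = q ^ k) ∧ IsConj y y⁻¹) :
    Bad q (H ⧸ Z) := by
  by_cases hex : ∃ y : H, y ∉ Z ∧ (∃ k : ℕ, orderOf y = q ^ k) ∧ IsConj y y⁻¹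
  · obtain ⟨y, h1, h2, h3⟩ := hex
    exact bad_quot_of_real q hq2 Z y h1 h2 h3
  · refine bad_quot_of_cent q hq2 Z hZ hd A hA ?_
    intro x hx hc
    by_contra hxZ
    apply hex
    apply h x hx hc
    rintro rfl
    exact hxZ (one_mem _)

end Cfsg.Agent.H631
end

-- part: H631/SLTwo
section
/-!
# S4603: real elements of `SL₂(F)` and the groups `PSL₂(F)`, `|F|` odd
-/

set_option autoImplicit false
set_option linter.style.haveILetI false
set_option linter.unusedSectionVars false
open Cfsg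

namespace Cfsg.Agent.H631

open Matrix

variable {F : Type} [Field F] [Fintype F]

omit [Fintype F] in
theorem sl_ext {n : Type*} [DecidableEq n] [Fintype n]
    {x y : Matrix.SpecialLinearGroup n F} (h : (x : Matrix n n F) = (y : Matrix n n F)) : x = y :=
  Subtype.ext h

/-- solving `tr g = tr (g x) = 0`, `det g = 1`. -/
theorem exists_anti (hF : Odd (Fintype.card F)) (a b c d : F) (hdet : a * d - b * c = 1) (ht : (a + d) ^ 2 ≠ 4) :
    ∃ u v w : F, u * (a - d) + v * c + w * b = 0 ∧ -(u ^ 2) - v * w = 1 := by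
  have h2 : (2 : F) ≠ 0 := by
    intro h
    have h1 : ringChar F = 2 := by
      have : ringChar F ∣ 2 := (ringChar.spec F 2).mp (by exact_mod_cast h)
      rcases (Nat.dvd_prime Nat.prime_two).mp this with h3 | h3
      · exact absurd h3 (CharP.ringChar_ne_one)
      · exact h3
    have h3 := FiniteField.even_card_iff_char_two.mp h1
    rw [Nat.odd_iff] at hF
    omega
  have hdisc : (a - d) ^ 2 + 4 * b * c ≠ 0 := by
    intro h
    apply ht
    have : (a + d) ^ 2 = (a - d) ^ 2 + 4 * b * c + 4 * (a * d - b * c) := by ring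
    rw [this, h, hdet]; ring
  by_cases hb : b = 0
  · subst hb
    have had : a - d ≠ 0 := by
      intro h
      apply hdisc
      rw [h]; ring
    by_cases hc : c = 0
    · subst hc
      exact ⟨0, 1, -1, by ring, by ring⟩
    · refine ⟨1, -((a - d) / c), 2 * c / (a - d), ?_, ?_⟩
      · field_simp
        ring
      · field_simp
        ring
  · -- complete the square
    have h4b : (4 : F) * b ≠ 0 := mul_ne_zero (by
      have : (4 : F) = 2 * 2 := by norm_num
      rw [this]; exact mul_ne_zero h2 h2) hb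
    have h4 : (4 : F) ≠ 0 := by
      have : (4 : F) = 2 * 2 := by norm_num
      rw [this]; exact mul_ne_zero h2 h2
    let k : F := ((a - d) ^ 2 + 4 * b * c) / (4 * b)
    have hk : k ≠ 0 := div_ne_zero hdisc h4b
    open Polynomial in
    obtain ⟨U, V, hUV⟩ := FiniteField.exists_root_sum_quadratic
      (f := Polynomial.C (-b) * Polynomial.X ^ 2 + Polynomial.C 0 * Polynomial.X + Polynomial.C (-b))
      (g := Polynomial.C k * Polynomial.X ^ 2 + Polynomial.C 0 * Polynomial.X + Polynomial.C 0)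
      (Polynomial.degree_quadratic (neg_ne_zero.mpr hb)) (Polynomial.degree_quadratic hk)
      (Nat.odd_iff.mp hF)
    simp only [Polynomial.eval_add, Polynomial.eval_mul, Polynomial.eval_C, Polynomial.eval_pow, Polynomial.eval_X,
      zero_mul, add_zero] at hUV
    -- `-b U² - b + k V² = 0`
    let u : F := U + (a - d) * V / (2 * b)
    refine ⟨u, V, -(u * (a - d) + V * c) / b, ?_, ?_⟩
    · field_simp
      ring
    · have e1 : -(u ^ 2) - V * (-(u * (a - d) + V * c) / b) = (-b * u ^ 2 + (a - d) * u * V + c * V ^ 2) / b := by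
        field_simp
        ring
      have e2 : -b * u ^ 2 + (a - d) * u * V + c * V ^ 2 = -b * U ^ 2 + k * V ^ 2 := by
        simp only [u, k]
        field_simp
        ring
      rw [e1, e2]
      have e3 : -b * U ^ 2 + k * V ^ 2 = b := by linear_combination hUV
      rw [e3, div_self hb]

/-- Elements of `SL₂(F)` of trace `≠ ±2` are real. -/
theorem real_of_trace (hF : Odd (Fintype.card F)) (x : _root_.Matrix.SpecialLinearGroup (Fin 2) F)
    (ht : (x.1 0 0 + x.1 1 1) ^ 2 ≠ 4) : IsConj x x⁻¹ := by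
  have hdet : x.1 0 0 * x.1 1 1 - x.1 0 1 * x.1 1 0 = 1 := by
    have := x.2
    rwa [Matrix.det_fin_two] at this
  obtain ⟨u, v, w, h1, h2⟩ := exists_anti hF _ _ _ _ hdet ht
  let g : _root_.Matrix.SpecialLinearGroup (Fin 2) F := ⟨!![u, v; w, -u], by rw [Matrix.det_fin_two_of]; linear_combination h2⟩
  rw [isConj_iff]
  refine ⟨g, ?_⟩
  rw [mul_inv_eq_iff_eq_mul]
  apply sl_ext
  show g.1 * x.1 = Matrix.adjugate x.1 * g.1
  rw [Matrix.adjugate_fin_two]
  have hx : x.1 = !![x.1 0 0, x.1 0 1; x.1 1 0, x.1 1 1] := Matrix.eta_fin_two x.1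
  show !![u, v; w, -u] * x.1 = !![x.1 1 1, -x.1 0 1; -x.1 1 0, x.1 0 0] * !![u, v; w, -u]
  rw [hx]
  simp only [Matrix.of_apply, Matrix.cons_val', Matrix.cons_val_zero, Matrix.cons_val_one, Matrix.cons_val_fin_one,
    Matrix.mul_fin_two]
  ext i j
  fin_cases i <;> fin_cases j <;> simp only [_root_.Fin.isValue, _root_.neg_mul, _root_.Fin.zero_eta, _root_.Matrix.of_apply, _root_.Matrix.cons_val', _root_.Matrix.cons_val_zero, _root_.Matrix.cons_val_fin_one, _root_.mul_neg, _root_.neg_neg, _root_.Fin.mk_one, _root_.Matrix.cons_val_one]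
  · linear_combination h1
  · ring
  · ring
  · linear_combination h1

theorem charP_ne_two {p : ℕ} [Fact p.Prime] [CharP F p] (hF : Odd (Fintype.card F)) : p ≠ 2 := by
  rintro rfl
  obtain ⟨n, -, hn⟩ := FiniteField.card F 2
  rw [hn] at hF
  exact (Nat.not_even_iff_odd.mpr hF) (Nat.even_pow.mpr ⟨even_two, n.2.ne'⟩)

theorem two_ne_zero_of_odd (hF : Odd (Fintype.card F)) : (2 : F) ≠ 0 := by
  intro h
  have h1 : ringChar F = 2 := by
    have : ringChar F ∣ 2 := (ringChar.spec F 2).mp (by exact_mod_cast h)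
    rcases (Nat.dvd_prime Nat.prime_two).mp this with h3 | h3
    · exact absurd h3 (CharP.ringChar_ne_one)
    · exact h3
  have h3 := FiniteField.even_card_iff_char_two.mp h1
  rw [Nat.odd_iff] at hF
  omega

/-- An element of `SL₂(F)` with `(tr x)² = 4` has order dividing `2p`. -/
theorem pow_eq_one_of_trace {p : ℕ} [hp : Fact p.Prime] [CharP F p] (x : _root_.Matrix.SpecialLinearGroup (Fin 2) F)
    (ht : (x.1 0 0 + x.1 1 1) ^ 2 = 4) : x ^ (2 * p) = 1 := by
  have hdet : x.1 0 0 * x.1 1 1 - x.1 0 1 * x.1 1 0 = 1 := by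
    have := x.2
    rwa [Matrix.det_fin_two] at this
  have hch : (x.1 * x.1) = (x.1 0 0 + x.1 1 1) • x.1 - 1 := by
    ext i j
    (revert i j; simp only [Matrix.mul_apply, Fin.sum_univ_two, _root_.Fin.forall_fin_succ, Fin.isValue, _root_.Matrix.sub_apply, _root_.Matrix.smul_apply, _root_.smul_eq_mul, _root_.Fin.succ_zero_eq_one, _root_.IsEmpty.forall_iff, _root_.Matrix.one_apply_eq, Nat.reduceAdd, _root_.ne_eq, _root_.zero_ne_one, _root_.not_false_eq_true, _root_.Matrix.one_apply_ne, _root_.sub_zero, _root_.Fin.succ_ne_zero, _root_.and_true, _root_.true_and]) <;> (repeat' with_reducible apply And.intro)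
    · linear_combination (-hdet)
    · ring
    · ring
    · linear_combination (-hdet)
  have h1 : (x.1 ^ 2 - 1) ^ 2 = 0 := by
    have e1 : x.1 ^ 2 - 1 = (x.1 0 0 + x.1 1 1) • x.1 - 2 := by
      rw [pow_two, hch]
      have : (2 : Matrix (Fin 2) (Fin 2) F) = 1 + 1 := by norm_num
      rw [this]; abel
    rw [e1]
    set t := x.1 0 0 + x.1 1 1
    have e2 : (t • x.1 - 2) ^ 2 = t ^ 2 • (x.1 * x.1) - (4 * t) • x.1 + 4 := by
      rw [pow_two, sub_mul, mul_sub, mul_sub]
      rw [Matrix.smul_mul, Matrix.mul_smul, smul_smul]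
      have : (2 : Matrix (Fin 2) (Fin 2) F) = (2 : F) • 1 := by
        ext i j
        (revert i j; simp only [Matrix.ofNat_apply, _root_.Fin.forall_fin_succ, _root_.Nat.cast_ite, _root_.Nat.cast_ofNat, _root_.Nat.cast_zero, _root_.Matrix.smul_apply, _root_.smul_eq_mul, Fin.isValue, _root_.Fin.succ_zero_eq_one, _root_.IsEmpty.forall_iff, _root_.and_true, ↓reduceIte, _root_.Matrix.one_apply_eq, _root_.mul_one, _root_.zero_ne_one, Nat.reduceAdd, _root_.ne_eq, _root_.not_false_eq_true, _root_.Matrix.one_apply_ne, _root_.MulZeroClass.mul_zero, _root_.and_self, _root_.Fin.succ_ne_zero, _root_.true_and])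
      have h4 : (4 : Matrix (Fin 2) (Fin 2) F) = (4 : F) • 1 := by
        ext i j
        (revert i j; simp only [Matrix.ofNat_apply, _root_.Fin.forall_fin_succ, _root_.Nat.cast_ite, _root_.Nat.cast_ofNat, _root_.Nat.cast_zero, _root_.Matrix.smul_apply, _root_.smul_eq_mul, Fin.isValue, _root_.Fin.succ_zero_eq_one, _root_.IsEmpty.forall_iff, _root_.and_true, ↓reduceIte, _root_.Matrix.one_apply_eq, _root_.mul_one, _root_.zero_ne_one, Nat.reduceAdd, _root_.ne_eq, _root_.not_false_eq_true, _root_.Matrix.one_apply_ne, _root_.MulZeroClass.mul_zero, _root_.and_self, _root_.Fin.succ_ne_zero, _root_.true_and])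
      rw [this, h4]
      simp only [Matrix.mul_smul, Matrix.smul_mul, Matrix.mul_one, Matrix.one_mul, smul_smul]
      have : (t ^ 2) = t * t := pow_two t
      rw [this]
      module
    rw [e2, ht, hch]
    have h4 : (4 : Matrix (Fin 2) (Fin 2) F) = (4 : F) • 1 := by
      ext i j
      (revert i j; simp only [Matrix.ofNat_apply, _root_.Fin.forall_fin_succ, _root_.Nat.cast_ite, _root_.Nat.cast_ofNat, _root_.Nat.cast_zero, _root_.Matrix.smul_apply, _root_.smul_eq_mul, Fin.isValue, _root_.Fin.succ_zero_eq_one, _root_.IsEmpty.forall_iff, _root_.and_true, ↓reduceIte, _root_.Matrix.one_apply_eq, _root_.mul_one, _root_.zero_ne_one, Nat.reduceAdd, _root_.ne_eq, _root_.not_false_eq_true, _root_.Matrix.one_apply_ne, _root_.MulZeroClass.mul_zero, _root_.and_self, _root_.Fin.succ_ne_zero, _root_.true_and])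
    rw [h4, smul_sub, smul_smul]
    abel
  have h2 : (x.1 ^ 2 - 1) ^ p = 0 := by
    obtain ⟨j, hj⟩ := Nat.exists_eq_add_of_le hp.out.two_le
    rw [hj, pow_add, h1, zero_mul]
  have h3 : (x.1 ^ 2) ^ p - 1 = 0 := by
    haveI : CharP (Matrix (Fin 2) (Fin 2) F) p := by infer_instance
    have h4 := sub_pow_char_of_commute p (Commute.one_right (x.1 ^ 2))
    rw [one_pow] at h4
    rw [← h4, h2]
  apply sl_ext
  have h5 : (x ^ (2 * p)).1 = x.1 ^ (2 * p) := Matrix.SpecialLinearGroup.coe_pow x (2 * p)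
  rw [h5, pow_mul, sub_eq_zero.mp h3]
  rfl

/-- `q`-elements of `SL₂(F)`, `q ≠ p` odd, are real. -/
theorem real_of_coprime {p : ℕ} [hp : Fact p.Prime] [CharP F p] (hF : Odd (Fintype.card F)) (q : ℕ)
    [hq : Fact q.Prime] (hq2 : q ≠ 2) (hqp : q ≠ p) (x : _root_.Matrix.SpecialLinearGroup (Fin 2) F)
    (hx : ∃ k : ℕ, orderOf x = q ^ k) : IsConj x x⁻¹ := by
  by_cases ht : (x.1 0 0 + x.1 1 1) ^ 2 = 4
  · obtain ⟨k, hk⟩ := hx
    have h1 : orderOf x ∣ 2 * p := orderOf_dvd_of_pow_eq_one (pow_eq_one_of_trace x ht)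
    have h2 : Nat.Coprime (q ^ k) (2 * p) := by
      apply Nat.Coprime.pow_left
      apply Nat.Coprime.mul_right
      · exact (Nat.coprime_primes hq.out Nat.prime_two).mpr hq2
      · exact (Nat.coprime_primes hq.out hp.out).mpr hqp
    rw [hk] at h1
    have h3 : q ^ k = 1 := Nat.Coprime.eq_one_of_dvd h2 h1
    rw [h3] at hk
    rw [orderOf_eq_one_iff.mp hk, inv_one]
  · exact real_of_trace hF x ht

end Cfsg.Agent.H631
end

-- part: H631/Exc
section
/-!
# S4603: groups with a root group datum in odd characteristic (helper631)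

* `bad_of_rgd` : the abstract form;
* `bad_chev` : the groups `D.group K`.
-/

set_option autoImplicit false
set_option linter.style.haveILetI false
set_option linter.unusedSectionVars false
open Cfsg

namespace Cfsg.Agent.H631

open CoxeterSystem Cfsg.Agent.ChevalleyStructure.CoxeterGeom Cfsg.Agent.Tits.Roots Cfsg.Agent.Tits.Core
  Cfsg.Agent.Tits.Exchange Cfsg.Agent.Nodes.Reps Cfsg.Agent.Nodes.BNOf Cfsg.Agent.Nodes.StabComb
  Cfsg.Agent.Nodes.Bruhat Cfsg.Agent.Nodes.OppDec Cfsg.Agent.Nodes.RGDLib Cfsg.Agent.GenExc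

/-- the closure of commuting involutions is a `2`-group -/
theorem isPGroup_closure {G : Type*} [Group G] {I : Type*} (z : I → G) (hsq : ∀ i, z i * z i = 1)
    (hc : ∀ i j, z i * z j = z j * z i) : IsPGroup 2 (Subgroup.closure (Set.range z)) := by
  have h1 : ∀ a ∈ Subgroup.closure (Set.range z), ∀ b ∈ Subgroup.closure (Set.range z), a * b = b * a := by
    intro a ha b hb
    have hab : Subgroup.closure (Set.range z) ≤ Subgroup.centralizer (Subgroup.closure (Set.range z) : Set G) := by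
      rw [Subgroup.closure_le]
      rintro _ ⟨i, rfl⟩
      rw [SetLike.mem_coe, Subgroup.mem_centralizer_iff]
      intro b hb
      have : Subgroup.closure (Set.range z) ≤ Subgroup.centralizer ({z i} : Set G) := by
        rw [Subgroup.closure_le]
        rintro _ ⟨j, rfl⟩
        rw [SetLike.mem_coe, Subgroup.mem_centralizer_iff]
        rintro _ rfl
        exact hc i j
      exact (Subgroup.mem_centralizer_iff.1 (this hb) _ rfl).symm
    exact (Subgroup.mem_centralizer_iff.1 (hab ha) b hb).symm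
  rintro ⟨a, ha⟩
  refine ⟨1, ?_⟩
  rw [pow_one]
  apply Subtype.ext
  change a ^ 2 = 1
  refine Subgroup.closure_induction (p := fun a _ => a ^ 2 = 1) ?_ (one_pow 2) ?_ ?_ ha
  · rintro _ ⟨i, rfl⟩
    rw [pow_two]; exact hsq i
  · intro a b ha hb h2 h3
    rw [(show Commute a b from h1 a ha b hb).mul_pow, h2, h3, one_mul]
  · intro a _ h2
    rw [inv_pow, h2, inv_one]

variable {I W Y : Type*} [Fintype I] [DecidableEq I] [Group W] [Group Y] {M : CoxeterMatrix I}
  {cs : CoxeterSystem M W} {A : I → I → ℤ} {h : IsCartan M A} {p : ℕ} {T : Subgroup Y} {n : I → Y}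
  {X : (I → ℤ) → Subgroup Y}

open Matrix in
/-- **Real elements from `SL₂(K)`.** -/
theorem bad_of_sl [Finite Y] {K : Type} [Field K] [Fintype K] {p : ℕ} [hp : Fact p.Prime] [CharP K p]
    (hK : Odd (Fintype.card K)) (q : ℕ) [hq : Fact q.Prime] (hq2 : q ≠ 2) (hd : q ∣ Fintype.card K - 1)
    (φ : Matrix.SpecialLinearGroup (Fin 2) K →* Y) (hφ : ∀ t : K, φ (Cfsg.Agent.ChevalleyStructure.SL2Hom.up t) = 1 → t = 0) : Bad q Y := by
  classical
  have hc : q ∣ Fintype.card Kˣ := by rwa [Fintype.card_units]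
  obtain ⟨a, ha⟩ := exists_prime_orderOf_dvd_card q hc
  have haq : (a : K) ^ q = 1 := by
    rw [← Units.val_pow_eq_pow_val, ← ha, pow_orderOf_eq_one, Units.val_one]
  have hqp : q ≠ p := by
    rintro rfl
    have h1 : q ∣ Fintype.card K := by
      obtain ⟨n, -, hn⟩ := FiniteField.card K q
      rw [hn]; exact dvd_pow_self _ n.ne_zero
    have h2 : 0 < Fintype.card K := Fintype.card_pos
    have h3 : q ∣ 1 := by
      have := (Nat.dvd_sub h1 hd)
      rwa [Nat.sub_sub_self h2] at this
    exact hq.out.one_lt.ne' (Nat.dvd_one.1 h3)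
  let g : Matrix.SpecialLinearGroup (Fin 2) K := ⟨Matrix.diagonal ![(a : K), ((a⁻¹ : Kˣ) : K)], by
    rw [Matrix.det_diagonal, Fin.prod_univ_two]; simp⟩
  have hgm : ∀ m : ℕ, ((g ^ m : Matrix.SpecialLinearGroup (Fin 2) K) : Matrix (Fin 2) (Fin 2) K) =
      Matrix.diagonal (fun i => (![(a : K), ((a⁻¹ : Kˣ) : K)] i) ^ m) := by
    intro m
    refine (Matrix.SpecialLinearGroup.coe_pow g m).trans ?_
    change (Matrix.diagonal ![(a : K), ((a⁻¹ : Kˣ) : K)]) ^ m = _
    rw [Matrix.diagonal_pow]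
    rfl
  have hgq : g ^ q = 1 := by
    apply sl_ext
    refine (hgm q).trans ?_
    refine Eq.trans ?_ (Matrix.SpecialLinearGroup.coe_one (n := Fin 2) (R := K)).symm
    rw [← Matrix.diagonal_one]
    congr 1
    funext i
    fin_cases i
    · exact haq
    · change ((a⁻¹ : Kˣ) : K) ^ q = 1
      rw [← Units.val_pow_eq_pow_val, inv_pow, ← ha, pow_orderOf_eq_one, inv_one, Units.val_one]
  have hg1 : g ≠ 1 := by
    intro h1
    have h2 := congrFun (congrFun (hgm 1) 0) 0
    rw [pow_one, h1, Matrix.diagonal_apply_eq, pow_one] at h2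
    have h3 : a = 1 := Units.ext h2.symm
    rw [h3, orderOf_one] at ha
    exact hq.out.one_lt.ne ha
  have hgo : orderOf g = q := orderOf_eq_prime hgq hg1
  have hreal := real_of_coprime hK q hq2 hqp g ⟨1, by rw [hgo, pow_one]⟩
  have hy1 : φ g ≠ 1 := by
    intro h1
    -- `g up(1) = up(a²) g`
    have h2 : g * Cfsg.Agent.ChevalleyStructure.SL2Hom.up (1 : K) = Cfsg.Agent.ChevalleyStructure.SL2Hom.up ((a : K) ^ 2) * g := by
      apply sl_ext
      refine (Matrix.SpecialLinearGroup.coe_mul _ _).trans ?_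
      refine Eq.trans ?_ (Matrix.SpecialLinearGroup.coe_mul _ _).symm
      change (Matrix.diagonal ![(a : K), ((a⁻¹ : Kˣ) : K)]) * !![1, 1; 0, 1] =
        !![1, (a : K) ^ 2; 0, 1] * (Matrix.diagonal ![(a : K), ((a⁻¹ : Kˣ) : K)])
      ext i j
      (revert i j; simp only [Matrix.mul_apply, Fin.sum_univ_two, Matrix.diagonal, pow_two, _root_.Fin.forall_fin_succ, _root_.Nat.succ_eq_add_one, Nat.reduceAdd, _root_.Units.val_inv_eq_inv_val, _root_.Matrix.of_apply, _root_.Matrix.cons_val', _root_.Matrix.cons_val_fin_one, _root_.ite_mul, _root_.MulZeroClass.zero_mul, _root_.Finset.sum_ite_eq, _root_.Finset.mem_univ, ↓reduceIte, _root_.mul_ite, _root_.MulZeroClass.mul_zero, _root_.Finset.sum_ite_eq', Fin.isValue, _root_.Matrix.cons_val_zero, _root_.Matrix.cons_val_succ, _root_.forall_const, _root_.mul_one, _root_.one_mul, _root_.ne_eq, _root_.Units.ne_zero, _root_.not_false_eq_true, _root_.mul_inv_cancel_right₀, _root_.and_self, _root_.implies_true])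
    have h3 : φ (Cfsg.Agent.ChevalleyStructure.SL2Hom.up (1 : K)) = φ (Cfsg.Agent.ChevalleyStructure.SL2Hom.up ((a : K) ^ 2)) := by
      have := congrArg φ h2
      rwa [map_mul, map_mul, h1, one_mul, mul_one] at this
    have h4 : Cfsg.Agent.ChevalleyStructure.SL2Hom.up ((a : K) ^ 2 - 1) * Cfsg.Agent.ChevalleyStructure.SL2Hom.up (1 : K) = Cfsg.Agent.ChevalleyStructure.SL2Hom.up ((a : K) ^ 2) := by
      apply sl_ext
      refine (Matrix.SpecialLinearGroup.coe_mul _ _).trans ?_
      change (!![1, (a : K) ^ 2 - 1; 0, 1] : Matrix (Fin 2) (Fin 2) K) * !![1, 1; 0, 1] = !![1, (a : K) ^ 2; 0, 1]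
      ext i j
      (revert i j; simp only [Matrix.mul_apply, Fin.sum_univ_two, _root_.Fin.forall_fin_succ, _root_.Matrix.of_apply, _root_.Matrix.cons_val', _root_.Matrix.cons_val_fin_one, Fin.isValue, _root_.Matrix.cons_val_zero, _root_.Matrix.cons_val_one, _root_.mul_one, _root_.MulZeroClass.mul_zero, _root_.add_zero, _root_.Matrix.cons_val_succ, _root_.forall_const, _root_.true_and, _root_.add_sub_cancel, _root_.zero_add, _root_.implies_true, _root_.and_self])
    have h5 : φ (Cfsg.Agent.ChevalleyStructure.SL2Hom.up ((a : K) ^ 2 - 1)) = 1 := by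
      have := congrArg φ h4
      rw [map_mul, ← h3] at this
      exact mul_eq_right.1 this
    have h6 : (a : K) ^ 2 = 1 := sub_eq_zero.1 (hφ _ h5)
    have h7 : a ^ 2 = 1 := Units.ext (by rw [Units.val_pow_eq_pow_val, h6, Units.val_one])
    have h8 : orderOf a ∣ 2 := orderOf_dvd_of_pow_eq_one h7
    rw [ha] at h8
    rcases (Nat.dvd_prime Nat.prime_two).1 h8 with h9 | h9
    · exact hq.out.one_lt.ne' h9
    · exact hq2 h9
  have hyq : orderOf (φ g) = q := orderOf_eq_prime (by rw [← map_pow, hgq, map_one]) hy1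
  refine bad_of_real q hq2 (φ g) hy1 ⟨1, by rw [hyq, pow_one]⟩ ?_
  rw [← map_inv]
  exact φ.map_isConj hreal

/-- **Groups with a root group datum.** -/
theorem bad_of_rgd [Finite Y] [Finite W] (R : RGD cs h p T n X) (hG : GG cs h T X = ⊤) {z : I → Y}
    (hz : Invols cs h T X z) (hsq : ∀ i, z i * z i = 1) (hcomm : ∀ i j, z i * z j = z j * z i)
    {K : Type} [Field K] [Fintype K] {p : ℕ} [hp : Fact p.Prime] [CharP K p] (hK : Odd (Fintype.card K))
    (hT : ∀ t ∈ T, t ^ (Fintype.card K - 1) = 1)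
    (φ : Matrix.SpecialLinearGroup (Fin 2) K →* Y) (hφ : ∀ t : K, φ (Cfsg.Agent.ChevalleyStructure.SL2Hom.up t) = 1 → t = 0)
    (q : ℕ) [hq : Fact q.Prime] (hq2 : q ≠ 2) (hd : q ∣ Nat.card Y) : Bad q Y := by
  by_cases hqK : q ∣ Fintype.card K - 1
  · exact bad_of_sl hK q hq2 hqK φ hφ
  · refine bad_of_centralizer q hd _ (isPGroup_closure z hsq hcomm) ?_
    rintro y ⟨k, hk⟩ hy
    have h1 : y ∈ T := by
      refine mem_T_of_commute R hG hz (fun i => hy (z i) (Subgroup.subset_closure ⟨i, rfl⟩))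
        (N := q ^ k) (hq.out.odd_of_ne_two hq2).pow ?_
      rw [← hk]; exact pow_orderOf_eq_one y
    have h2 : orderOf y ∣ Fintype.card K - 1 := orderOf_dvd_of_pow_eq_one (hT y h1)
    rw [hk] at h2
    have h3 : Nat.Coprime (q ^ k) (Fintype.card K - 1) :=
      Nat.Coprime.pow_left k ((Nat.Prime.coprime_iff_not_dvd hq.out).2 hqK)
    have h4 : q ^ k = 1 := Nat.Coprime.eq_one_of_dvd h3 h2
    rw [h4] at hk
    exact orderOf_eq_one_iff.1 hk

end Cfsg.Agent.H631
end
end

-- part: H631/ExcChev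
section
set_option linter.all false
open scoped Cfsg.Agent.FastGrp

/-!
# S4603: `G₂(q)`, `F₄(q)`, `E₆(q)`, `E₇(q)`, `E₈(q)`, `q` odd (helper631)
-/

set_option autoImplicit false
set_option linter.style.haveILetI false
set_option linter.unusedSectionVars false

namespace Cfsg.Agent.H631.ExcChev

open CoxeterSystem Subgroup
open Cfsg Cfsg.Lie Cfsg.Lie.ChevalleyDatum
open Cfsg.Agent.ChevalleyStructure Cfsg.Agent.ChevalleyStructure.Elts Cfsg.Agent.ChevalleyStructure.CoxeterGeom
  Cfsg.Agent.ChevalleyStructure.RootVec Cfsg.Agent.ChevalleyStructure.RootVecTab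
  Cfsg.Agent.ChevalleyStructure.CoxeterGeomTypes Cfsg.Agent.ChevalleyStructure.NPerm
open Cfsg.Agent.Tits.Roots Cfsg.Agent.Nodes.Reps Cfsg.Agent.Nodes.BNOf Cfsg.Agent.Nodes.RGDChev
  Cfsg.Agent.Nodes.Bruhat
open Cfsg.Agent.OddHalf.LongSL Cfsg.Agent.OddHalf.LongSL.Chev
open Cfsg.Agent.KFacts.RgdChevCoord (TT XX nc)
open Cfsg.Agent.GenExc Cfsg.Agent.GenExc.Chev

universe u

/-- every root has an odd Cartan integer with a simple root -/
def chkOdd (D : ChevalleyDatum) (l : ℕ) : Bool :=
  allLT (fun r => (List.finRange l).any fun i => !(evB D [i] r)) D.nroots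

theorem chkOdd_G2 : chkOdd chevG2 2 = true := by decide +kernel
theorem chkOdd_F4 : chkOdd chevF4 4 = true := by decide +kernel
theorem chkOdd_E6 : chkOdd chevE6 6 = true := by decide +kernel
theorem chkOdd_E7 : chkOdd chevE7 7 = true := by decide +kernel
theorem chkOdd_E8 : chkOdd chevE8 8 = true := by decide +kernel

theorem isType_G2 : IsType chevG2 2 CoxeterMatrix.G₂ := by simp [IsType, typeList]

variable {D : ChevalleyDatum} {l : ℕ} {M : CoxeterMatrix (Fin l)} (hp : IsType D l M)

theorem csum_single (i : Fin l) (r : ℕ) : csum D [i] r = D.cartan i r := by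
  unfold csum
  simp

variable (K : Type) [Field K]

theorem invols (h2 : (2 : K) ≠ 0) (hc : chkOdd D l = true) {W : Type*} [Group W] (cs : CoxeterSystem M W) :
    Invols cs hp.isCartan (TT D K) (XX D l K) (fun i => zS hp K [i]) where
  mem i := zS_mem_T hp K [i]
  even i x hx he u hu := by
    obtain ⟨r, hr, rfl⟩ := (isRoot_iff hp cs x).1 hx
    rw [pairing_vec hp i hr] at he
    exact commute_zS hp K hr (by rwa [csum_single]) hu
  odd i x hx he u hu h := by
    obtain ⟨r, hr, rfl⟩ := (isRoot_iff hp cs x).1 hx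
    rw [pairing_vec hp i hr] at he
    exact not_commute_zS hp h2 hr (by rwa [csum_single]) hu h
  exists_odd x hx := by
    obtain ⟨r, hr, rfl⟩ := (isRoot_iff hp cs x).1 hx
    unfold chkOdd at hc
    rw [allLT_iff] at hc
    have h1 := hc r hr
    rw [List.any_eq_true] at h1
    obtain ⟨i, -, hi⟩ := h1
    rw [Bool.not_eq_true', ← Bool.not_eq_true, evB_iff hp _ hr, csum_single] at hi
    exact ⟨i, by rwa [pairing_vec hp i hr]⟩

include hp in
theorem pow_card_sub_one [Fintype K] {t : ↥(D.group K)} (ht : t ∈ TT D K) : t ^ (Fintype.card K - 1) = 1 := by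
  rw [Subgroup.mem_subgroupOf] at ht
  obtain ⟨χ, hχ⟩ := HMatDiagAll.mem_torus.1 (HMatDiagAll.diagonalSubgroup_le_torus hp.inList ht)
  have hinv : (((t⁻¹ : ↥(D.group K)) : GL D.Idx K) : Matrix D.Idx D.Idx K) * ((t : GL D.Idx K) : Matrix _ _ K) = 1 := by
    rw [← Units.val_mul, ← Subgroup.coe_mul, inv_mul_cancel]; rfl
  have hne : ∀ i, χ i ≠ 0 := by
    intro i h0
    rw [hχ] at hinv
    have h1 := congrFun (congrFun hinv (Sum.inr i)) (Sum.inr i)
    rw [Matrix.mul_diagonal, Matrix.one_apply_eq, Sum.elim_inr, h0, mul_zero] at h1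
    exact zero_ne_one h1
  apply Subtype.ext
  apply Units.ext
  rw [Subgroup.coe_pow, Units.val_pow_eq_pow_val, hχ, Matrix.diagonal_pow, Subgroup.coe_one, Units.val_one,
    ← Matrix.diagonal_one]
  congr 1
  funext i
  rcases i with i | i
  · simp
  · rw [Pi.pow_apply, Sum.elim_inr]
    exact FiniteField.pow_card_sub_one_eq_one _ (hne i)

variable {K}

theorem phi_up_inj (i : Fin l) (t : K) (h : phi hp K i (SL2Hom.up t) = 1) : t = 0 := by
  have h1 : xG hp.inList (D.simple i) t = xG hp.inList (D.simple i) (0 : K) := by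
    rw [xG_zero, ← phi_up hp K i t, h]; rfl
  exact xG_injective hp.inList (simple_lt hp.inList (lt_rank hp i)) h1

include hp in
theorem bad_chev [Fintype K] (hc : chkOdd D l = true) (i0 : Fin l) (hK : Odd (Fintype.card K)) {X : Type u} [Group X]
    (hX : Nonempty (X ≃* ↥(D.group K))) (q : ℕ) [hq : Fact q.Prime] (hq2 : q ≠ 2) (hd : q ∣ Nat.card X) : Bad q X := by
  classical
  obtain ⟨e⟩ := hX
  obtain ⟨p, hpr, hcp⟩ : ∃ p : ℕ, p.Prime ∧ CharP K p := by
    obtain ⟨p, hcp⟩ := CharP.exists K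
    exact ⟨p, CharP.char_is_prime K p, hcp⟩
  haveI : Fact p.Prime := ⟨hpr⟩
  let cs : CoxeterSystem M M.Group := M.toCoxeterSystem
  haveI : Finite M.Group := finite_W hp cs
  have hfin : Finite ↥(D.group K) := inferInstance
  rw [Nat.card_congr e.toEquiv] at hd
  have R := Cfsg.Agent.Nodes.RGDChev.rgd hp (K := K) (cs := cs) p
  have hGG := Cfsg.Agent.KFacts.RgdRigid.GG_eq_top (cs := cs) (h := hp.isCartan) (T := TT D K) (X := XX D l K)
    (G1_eq_top hp (cs := cs))
  refine (bad_of_rgd R hGG (invols hp K (two_ne_zero_of_odd hK) hc cs) (fun i => zS_sq hp K [i])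
    (fun i j => diag_comm hp K _ (zS_mem_T hp K [i]) _ (zS_mem_T hp K [j])) (p := p) hK
    (fun t ht => pow_card_sub_one hp K ht) (phi hp K i0) (phi_up_inj hp i0) q hq2 hd).congr e.symm

theorem isoG2 {X : Type u} [Group X] {F : Type} [Field F] [Fintype F] (hF : Odd (Fintype.card F))
    (hX : Nonempty (X ≃* ↥(chevG2.group F))) (q : ℕ) [hq : Fact q.Prime] (hq2 : q ≠ 2) (hd : q ∣ Nat.card X) :
    Bad q X := bad_chev isType_G2 chkOdd_G2 0 hF hX q hq2 hd

theorem isoF4 {X : Type u} [Group X] {F : Type} [Field F] [Fintype F] (hF : Odd (Fintype.card F))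
    (hX : Nonempty (X ≃* ↥(chevF4.group F))) (q : ℕ) [hq : Fact q.Prime] (hq2 : q ≠ 2) (hd : q ∣ Nat.card X) :
    Bad q X := bad_chev isType_F4 chkOdd_F4 0 hF hX q hq2 hd

theorem isoE6 {X : Type u} [Group X] {F : Type} [Field F] [Fintype F] (hF : Odd (Fintype.card F))
    (hX : Nonempty (X ≃* ↥(chevE6.group F))) (q : ℕ) [hq : Fact q.Prime] (hq2 : q ≠ 2) (hd : q ∣ Nat.card X) :
    Bad q X := bad_chev isType_E6 chkOdd_E6 0 hF hX q hq2 hd

theorem isoE7 {X : Type u} [Group X] {F : Type} [Field F] [Fintype F] (hF : Odd (Fintype.card F))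
    (hX : Nonempty (X ≃* ↥(chevE7.group F))) (q : ℕ) [hq : Fact q.Prime] (hq2 : q ≠ 2) (hd : q ∣ Nat.card X) :
    Bad q X := bad_chev isType_E7 chkOdd_E7 0 hF hX q hq2 hd

theorem isoE8 {X : Type u} [Group X] {F : Type} [Field F] [Fintype F] (hF : Odd (Fintype.card F))
    (hX : Nonempty (X ≃* ↥(chevE8.group F))) (q : ℕ) [hq : Fact q.Prime] (hq2 : q ≠ 2) (hd : q ∣ Nat.card X) :
    Bad q X := bad_chev isType_E8 chkOdd_E8 0 hF hX q hq2 hd

end Cfsg.Agent.H631.ExcChev
end
end
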