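import Mathlib
import Cfsg.Agent.H631.ExcChev
import Cfsg.Agent.CpAutRee.Ree
import Cfsg.Agent.Prune
set_option linter.all false
prune_inst 0x7f00000000000000000000000000000000000000000000000000000000000000000000000000000000000000000000000000000000000000000000000000000000000000000000000000000000000000003fffffffffffffffffffffffffffbeffbdffffffff
open scoped Cfsg.Agent.FastGrp

/-!
# S4603: the small Ree groups (helper631)
-/

set_option autoImplicit false
set_option linter.style.haveILetI false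
set_option linter.unusedSectionVars false

namespace Cfsg.Agent.H631

open Subgroup Cfsg
open Cfsg.Agent.Walter Cfsg.Agent.Walter.Types
open Cfsg.Agent.CpAutRee.Ree (exists_conj cent_conj pow_mod_eight)

universe u

/-- A Sylow `2`-subgroup whose centralizer is a `2`-group. -/
theorem bad_of_sylow {X : Type u} [Group X] [Finite X] (S : Sylow 2 X)
    (h : IsPGroup 2 ↥(centralizer ((S : Subgroup X) : Set X))) (q : ℕ) [hq : Fact q.Prime] (hq2 : q ≠ 2)
    (hd : q ∣ Nat.card X) : Bad q X := by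
  refine bad_of_centralizer q hd (S : Subgroup X) S.isPGroup' ?_
  rintro y ⟨k, hk⟩ hy
  have h1 : y ∈ centralizer ((S : Subgroup X) : Set X) := mem_centralizer_iff.2 hy
  obtain ⟨j, hj⟩ := h ⟨y, h1⟩
  have h2 : y ^ (2 ^ j) = 1 := congrArg Subtype.val hj
  have h3 : orderOf y ∣ 2 ^ j := orderOf_dvd_of_pow_eq_one h2
  rw [hk] at h3
  have h4 : Nat.Coprime (q ^ k) (2 ^ j) :=
    Nat.Coprime.pow _ _ ((Nat.coprime_primes hq.out Nat.prime_two).2 hq2)
  rw [Nat.Coprime.eq_one_of_dvd h4 h3] at hk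
  exact orderOf_eq_one_iff.1 hk

theorem isJR_ree {K : Type} [Field K] [Fintype K] {m : ℕ} (hm : 1 ≤ m) (hK : Fintype.card K = 3 ^ (2 * m + 1)) :
    IsJR ↥(Cfsg.Lie.twistedG2 K (3 ^ m)) := by
  classical
  have h2 : Fact (Nat.Prime 2) := ⟨Nat.prime_two⟩
  obtain ⟨hsimp, hc⟩ := Cfsg.Agent.S1073.result hm hK
  have hna : ∃ a b : ↥(Cfsg.Lie.twistedG2 K (3 ^ m)), a * b ≠ b * a := by
    by_contra hcon
    push Not at hcon
    exact hc ⟨⟨hcon⟩⟩
  obtain ⟨a, haH, ha1, ha2⟩ := Cfsg.Agent.S1157.exists_involution hK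
  obtain ⟨⟨e⟩, hS⟩ := Cfsg.Agent.S1152.result hK a haH ha1 ha2
  have hao : orderOf a = 2 := orderOf_eq_prime (by rw [sq, ha2]) ha1
  have hq8 := pow_mod_eight m
  have hq27 : 27 ≤ 3 ^ (2 * m + 1) := by
    calc 27 = 3 ^ 3 := by norm_num
      _ ≤ 3 ^ (2 * m + 1) := Nat.pow_le_pow_right (by norm_num) (by omega)
  refine ⟨⟨default, hS default⟩, K, inferInstance, inferInstance, Or.inl (by rw [hK, hq8]),
    by rw [hK]; omega, ?_⟩
  intro t ht
  obtain ⟨g, rfl⟩ := exists_conj hna hS hao ht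
  obtain ⟨f⟩ := cent_conj a g
  exact ⟨f.symm.trans e⟩

/-- Groups of Janko–Ree type. -/
theorem bad_of_isJR {X : Type u} [Group X] [Finite X] (hJ : IsJR X) (q : ℕ) [hq : Fact q.Prime] (hq2 : q ≠ 2)
    (hd : q ∣ Nat.card X) : Bad q X := by
  haveI : Fact (Nat.Prime 2) := ⟨Nat.prime_two⟩
  obtain ⟨S⟩ : Nonempty (Sylow 2 X) := inferInstance
  obtain ⟨-, -, f3⟩ := PSLFacts.IsJR.facts hJ S
  exact bad_of_sylow S (S.isPGroup'.to_le f3) q hq2 hd

/-- **The Ree groups.** -/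
theorem isoRee {X : Type u} [Group X] (h : Cfsg.Lie.IsoRee X) (q : ℕ) [hq : Fact q.Prime] (hq2 : q ≠ 2)
    (hd : q ∣ Nat.card X) : Bad q X := by
  obtain ⟨K, i1, i2, m, hm, hK, ⟨e⟩⟩ := h
  rw [Nat.card_congr e.toEquiv] at hd
  exact (bad_of_isJR (isJR_ree hm hK) q hq2 hd).congr e.symm

end Cfsg.Agent.H631
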